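import Cfsg.Agent.Eq.Def_Blocks
import Cfsg.Agent.S0153
import Cfsg.Agent.Chars.Induced.Clifford
import Cfsg.Agent.Chars.Induced.Det

/-!
Determinants of restricted characters: additivity of the determinant and the determinant of a
Clifford decomposition.
-/

set_option autoImplicit false
set_option linter.style.haveILetI false
set_option linter.unusedSectionVars false

noncomputable section


open Cfsg CfsgLib.Chars CfsgLib.Chars.Induced

namespace CfsgLib.RelDegree

universe u

variable {G : Type u} [Group G] [Finite G]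

/-- The determinant is computed by any representation affording the character. -/
theorem detHom_eq_repDet {V : Type*} [AddCommGroup V] [Module ℂ V] [FiniteDimensional ℂ V]
    {χ : G → ℂ} (h : IsCharacter G χ) (σ : Representation ℂ G V) (hσ : σ.character = χ) :
    detHom h = repDet σ := by
  obtain ⟨e⟩ := Cfsg.Agent.S0153.key _ _ _ rfl (chosenRep h) σ ((chosenRep_character h).trans hσ.symm)
  refine MonoidHom.ext fun g => Units.ext ?_
  show LinearMap.det (chosenRep h g) = LinearMap.det (σ g)
  have h1 : σ g = e.toLinearEquiv.conj (chosenRep h g) := LinearMap.ext fun v => by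
    rw [LinearEquiv.conj_apply]
    simp only [LinearMap.coe_comp, LinearEquiv.coe_coe, Function.comp_apply]
    have h2 := Representation.IntertwiningMap.isIntertwining _ _ e.toIntertwiningMap g (e.toLinearEquiv.symm v)
    exact (congrArg (σ g) (e.toLinearEquiv.apply_symm_apply v)).symm.trans h2.symm
  rw [h1, LinearEquiv.conj_apply, LinearMap.comp_assoc, LinearMap.det_conj]

theorem detHom_congr {χ ψ : G → ℂ} (h : IsCharacter G χ) (h' : IsCharacter G ψ) (e : χ = ψ) :
    detHom h = detHom h' := by subst e; rfl

theorem detHom_add {χ ψ : G → ℂ} (hχ : IsCharacter G χ) (hψ : IsCharacter G ψ)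
    (h : IsCharacter G (χ + ψ)) : detHom h = detHom hχ * detHom hψ := by
  rw [detHom_eq_repDet h ((chosenRep hχ).prod (chosenRep hψ))
    (by rw [prod_character, chosenRep_character, chosenRep_character])]
  exact MonoidHom.ext fun g => Units.ext (LinearMap.det_prodMap _ _)

theorem detHom_zero (h : IsCharacter G (0 : G → ℂ)) : detHom h = 1 := by
  have h1 := detHom_add h h (by rw [add_zero]; exact h)
  rw [detHom_congr (χ := (0 : G → ℂ) + 0) _ h (add_zero _)] at h1
  refine MonoidHom.ext fun g => ?_
  have h2 := DFunLike.congr_fun h1 g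
  rw [MonoidHom.mul_apply] at h2
  exact left_eq_mul.1 h2

theorem detHom_nsmul {χ : G → ℂ} (hχ : IsCharacter G χ) (e : ℕ) (h : IsCharacter G (e • χ)) :
    detHom h = detHom hχ ^ e := by
  induction e with
  | zero =>
    rw [detHom_congr h isCharacter_zero (zero_smul ℕ χ), detHom_zero]
    ext g
    simp
  | succ k ih =>
    rw [detHom_congr h (isCharacter_add (isCharacter_nsmul k hχ) hχ) (succ_nsmul χ k),
      detHom_add (isCharacter_nsmul k hχ) hχ, ih]
    ext g
    simp [pow_succ]

theorem detHom_sum {ι : Type*} (s : Finset ι) (f : ι → IrrCharacter G)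
    (h : IsCharacter G (∑ i ∈ s, (f i : G → ℂ))) :
    detHom h = ∏ i ∈ s, detHom (isCharacter_coe (f i)) := by
  classical
  induction s using Finset.induction with
  | empty =>
    rw [Finset.prod_empty, detHom_congr h isCharacter_zero (Finset.sum_empty), detHom_zero]
  | insert a s ha ih =>
    rw [Finset.prod_insert ha, detHom_congr h (isCharacter_add (isCharacter_coe (f a))
      (isCharacter_sum s _ fun i _ => isCharacter_coe (f i))) (Finset.sum_insert ha),
      detHom_add (isCharacter_coe (f a)) (isCharacter_sum s _ fun i _ => isCharacter_coe (f i)), ih]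

/-- A rank-one character is its own determinant. -/
theorem detHom_linChar (l : G →* ℂˣ) : detHom (isCharacter_coe (linChar l)) = l :=
  MonoidHom.ext fun g => Units.ext ((detHom_apply _ g).trans (detChar_linChar l g))

/-- The group of linear characters, with a single group structure. -/
def Lin (H : Type u) [Group H] : Type u := H →* ℂˣ

instance instCommGroupLin (H : Type u) [Group H] : CommGroup (Lin H) :=
  inferInstanceAs (CommGroup (H →* ℂˣ))

/-- The underlying homomorphism. -/
abbrev Lin.hom {H : Type u} [Group H] (l : Lin H) : H →* ℂˣ := l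

/-- The linear character as an irreducible character. -/
def linL {H : Type u} [Group H] (l : Lin H) : IrrCharacter H := CfsgLib.Chars.linChar l.hom

theorem linL_injective {H : Type u} [Group H] [Finite H] : Function.Injective (linL (H := H)) :=
  fun _ _ h => CfsgLib.Chars.linChar_injective h

theorem linL_apply {H : Type u} [Group H] (l : Lin H) (x : H) :
    (linL l : H → ℂ) x = ((l.hom x : ℂˣ) : ℂ) := rfl

instance instFiniteLin (H : Type u) [Group H] [Finite H] : Finite (Lin H) :=
  Finite.of_injective _ linL_injective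

/-- The determinant of an irreducible character, as a linear character. -/
def detL {H : Type u} [Group H] [Finite H] (θ : IrrCharacter H) : Lin H :=
  detHom (CfsgLib.Chars.isCharacter_coe θ)

theorem detL_linL {H : Type u} [Group H] [Finite H] (l : Lin H) : detL (linL l) = l :=
  detHom_linChar l.hom

theorem Lin.ext {H : Type u} [Group H] {l m : Lin H} (h : ∀ x, l.hom x = m.hom x) : l = m :=
  MonoidHom.ext h

theorem Lin.mul_apply {H : Type u} [Group H] (l m : Lin H) (x : H) :
    (l * m).hom x = l.hom x * m.hom x := rfl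

theorem Lin.pow_apply {H : Type u} [Group H] (l : Lin H) (i : ℕ) (x : H) :
    (l ^ i).hom x = l.hom x ^ i := rfl

variable {N : Subgroup G} [N.Normal]

/-- The conjugate of a linear character. -/
def cj (g : G) (l : Lin N) : Lin N :=
  l.hom.comp ((MulAut.conjNormal g : MulAut N)⁻¹).toMonoidHom

theorem cj_one (l : Lin N) : cj (1 : G) l = l := by
  refine Lin.ext fun x => ?_
  show l.hom (((MulAut.conjNormal (1 : G) : MulAut N)⁻¹) x) = l.hom x
  simp

theorem cj_mul (g k : G) (l : Lin N) : cj (g * k) l = cj g (cj k l) := by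
  refine Lin.ext fun x => ?_
  show l.hom (((MulAut.conjNormal (g * k) : MulAut N)⁻¹) x) =
    l.hom (((MulAut.conjNormal k : MulAut N)⁻¹) (((MulAut.conjNormal g : MulAut N)⁻¹) x))
  simp [mul_inv_rev]

theorem cj_lmul (g : G) (l m : Lin N) : cj g (l * m) = cj g l * cj g m := rfl

theorem cj_pow (g : G) (l : Lin N) (i : ℕ) : cj g (l ^ i) = cj g l ^ i := rfl

theorem cj_id (g : G) : cj g (1 : Lin N) = 1 := rfl

theorem coe_conjIrr_linL (g : G) (l : Lin N) : conjIrr g (linL l) = linL (cj g l) :=
  Subtype.ext rfl

/-- The stabiliser of a linear character. -/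
def stab (l : Lin N) : Subgroup G := inertia N ((linL l : IrrCharacter N) : N → ℂ)

theorem mem_stab {l : Lin N} {g : G} : g ∈ stab l ↔ cj g l = l := by
  rw [stab, mem_inertia]
  constructor
  · intro h
    exact linL_injective (Subtype.ext h)
  · intro h
    exact (congrArg Subtype.val (coe_conjIrr_linL g l)).trans (by rw [h])

/-- The determinant of a constituent is equivariant. -/
theorem detHom_conjIrr (g : G) (θ : IrrCharacter N) :
    detL (conjIrr g θ) = cj g (detL θ) := by
  show detHom (isCharacter_coe (conjIrr g θ)) = _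
  rw [detHom_eq_repDet (isCharacter_coe (conjIrr g θ))
    ((chosenRep (isCharacter_coe θ)).comp ((MulAut.conjNormal g : MulAut N)⁻¹).toMonoidHom) ?_]
  · refine Lin.ext fun n => Units.ext ?_
    rfl
  · funext n
    exact congrFun (chosenRep_character (isCharacter_coe θ)) _

theorem inertia_le_stab_det (θ : IrrCharacter N) :
    inertia N (θ : N → ℂ) ≤ stab (detL θ) := by
  intro g hg
  rw [mem_stab, ← detHom_conjIrr]
  exact detHom_congr (isCharacter_coe (conjIrr g θ)) (isCharacter_coe θ) hg

variable [Fintype G] [Fintype N]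

/-- The degree of a character over `θ`, and the determinant of its restriction. -/
theorem clifford_det (hNG : N ≤ commutator G) (χ : IrrCharacter G) (θ : IrrCharacter N)
    (hθ : mult (fun n : N => (χ : G → ℂ) n) θ ≠ 0)
    [Fintype (G ⧸ inertia N (θ : N → ℂ))] :
    ∃ e : ℕ, charDegree (χ : G → ℂ) =
        e * (inertia N (θ : N → ℂ)).index * charDegree (θ : N → ℂ) ∧
      (∏ q : G ⧸ inertia N (θ : N → ℂ), cj q.out (detL θ)) ^ e = 1 := by
  classical
  set e := mult (fun n : N => (χ : G → ℂ) n) θ with he
  refine ⟨e, ?_, ?_⟩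
  · apply Nat.cast_injective (R := ℂ)
    rw [coe_charDegree, clifford_one χ θ hθ, Nat.cast_mul, Nat.cast_mul, coe_charDegree]
  set I := inertia N (θ : N → ℂ) with hI
  set O := (Set.finite_range fun x : G => conjIrr x θ).toFinset with hO
  have hinj : Function.Injective fun q : G ⧸ I => conjIrr q.out θ := by
    intro q r h
    have h1 : conjFun N q.out (θ : N → ℂ) = conjFun N r.out (θ : N → ℂ) := congrArg Subtype.val h
    rw [conjFun_eq_conjFun_iff, ← QuotientGroup.eq, QuotientGroup.out_eq', QuotientGroup.out_eq'] at h1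
    exact h1.symm
  have hOeq : O = Finset.univ.image fun q : G ⧸ I => conjIrr q.out θ := by
    ext η
    rw [hO, Set.Finite.mem_toFinset, Finset.mem_image]
    constructor
    · rintro ⟨x, rfl⟩
      refine ⟨(x : G ⧸ I), Finset.mem_univ _, Subtype.ext ?_⟩
      show conjFun N (Quotient.out (x : G ⧸ I)) (θ : N → ℂ) = conjFun N x (θ : N → ℂ)
      rw [conjFun_eq_conjFun_iff, ← QuotientGroup.eq]
      exact (QuotientGroup.out_eq' _).symm
    · rintro ⟨q, -, rfl⟩
      exact ⟨_, rfl⟩
  have hres := isCharacter_restrict (isCharacter_coe χ) N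
  have hsum : IsCharacter N (∑ η ∈ O, (η : N → ℂ)) :=
    isCharacter_sum O _ fun η _ => isCharacter_coe η
  have hcl : (fun n : N => (χ : G → ℂ) n) = e • ∑ η ∈ O, (η : N → ℂ) := by
    rw [clifford χ θ hθ, ← he, ← hO, ← Nat.cast_smul_eq_nsmul ℂ]
  have h1 : (detHom hres : Lin N) = (∏ η ∈ O, detL η) ^ e := by
    rw [detHom_congr hres (isCharacter_nsmul e hsum) hcl, detHom_nsmul hsum,
      detHom_sum O (fun η => η) hsum]
    rfl
  have h2 : (detHom hres : Lin N) = 1 := by
    rw [detHom_eq_repDet hres ((chosenRep (isCharacter_coe χ)).comp N.subtype)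
      (funext fun n : N => congrFun (chosenRep_character (isCharacter_coe χ)) (n : G))]
    refine Lin.ext fun n => ?_
    show repDet (chosenRep (isCharacter_coe χ)) (n : G) = 1
    exact Abelianization.commutator_subset_ker _ (hNG n.2)
  rw [h2, hOeq, Finset.prod_image (fun q _ r _ h => hinj h)] at h1
  refine Eq.trans ?_ h1.symm
  congr 1
  refine Finset.prod_congr ?_ fun q _ => (detHom_conjIrr _ θ).symm
  convert rfl

/-- If all conjugates of the `i`-th power of the determinant coincide it has small order. -/
theorem det_pow_eq_one (hNG : N ≤ commutator G) (χ : IrrCharacter G) (θ : IrrCharacter N)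
    (hθ : mult (fun n : N => (χ : G → ℂ) n) θ ≠ 0) (i : ℕ)
    (hi : ∀ g : G, cj g (detL θ ^ i) = detL θ ^ i) :
    ∃ e : ℕ, charDegree (χ : G → ℂ) = e * charDegree (θ : N → ℂ) ∧
      (detL θ ^ i) ^ e = 1 := by
  haveI := Fintype.ofFinite (G ⧸ inertia N (θ : N → ℂ))
  obtain ⟨e, h1, h2⟩ := clifford_det hNG χ θ hθ
  refine ⟨e * (inertia N (θ : N → ℂ)).index, h1, ?_⟩
  have h3 := congrArg (· ^ i) h2
  simp only [one_pow] at h3
  rw [← pow_mul, mul_comm, pow_mul, ← Finset.prod_pow,
    Finset.prod_congr rfl (fun q _ => (cj_pow q.out (detL θ) i).symm.trans (hi _)), Finset.prod_const,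
    Finset.card_univ, ← Nat.card_eq_fintype_card, ← Subgroup.index_eq_card, ← pow_mul, mul_comm] at h3
  exact h3

/-- Some irreducible character lies over every irreducible character of a normal subgroup. -/
theorem exists_over (θ : IrrCharacter N) :
    ∃ χ : IrrCharacter G, mult (fun n : N => (χ : G → ℂ) n) θ ≠ 0 := by
  have hne : indFun N (θ : N → ℂ) ≠ 0 := fun h => by
    have h1 := congrFun h 1
    rw [indFun_one_apply, ← coe_charDegree, Pi.zero_apply, mul_eq_zero, Nat.cast_eq_zero,
      Nat.cast_eq_zero] at h1
    rcases h1 with h1 | h1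
    · exact Subgroup.index_ne_zero_of_finite h1
    · exact (charDegree_pos θ).ne' h1
  obtain ⟨χ, hχ⟩ := exists_mult_ne_zero (isCharacter_indFun N (isCharacter_coe θ)) hne
  exact ⟨χ, by rwa [mult_indFun_irr] at hχ⟩

/-- A character over a nonprincipal character does not have the normal subgroup in its kernel. -/
theorem kernel_not_le (χ : IrrCharacter G) (θ : IrrCharacter N) (hne : θ ≠ oneChar N)
    (hθ : mult (fun n : N => (χ : G → ℂ) n) θ ≠ 0) :
    ∃ x ∈ N, (χ : G → ℂ) x ≠ (χ : G → ℂ) 1 := by
  by_contra h
  push Not at h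
  apply hθ
  apply Nat.cast_injective (R := ℂ)
  rw [← classInner_eq_mult (isCharacter_restrict (isCharacter_coe χ) N),
    show (fun n : N => (χ : G → ℂ) n) =
      (charDegree (χ : G → ℂ) : ℂ) • ((oneChar N : IrrCharacter N) : N → ℂ) from funext fun n => by
      rw [Pi.smul_apply, oneChar_apply, smul_eq_mul, mul_one, coe_charDegree]; exact h n n.2,
    CfsgLib.Chars.Induced.classInner_smul_left, classInner_irr_of_ne (Ne.symm hne), mul_zero, Nat.cast_zero]

end CfsgLib.RelDegree
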