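import Cfsg.Agent.RelDegree.Linking
import Cfsg.Agent.Chars.Basic.Linear
import Cfsg.Agent.Chars.Induced.Ito
import Mathlib.GroupTheory.Perm.Sign
import Mathlib.GroupTheory.Nilpotent

/-!
# Degrees prime to `|N : N'|` in a disconnected relative degree graph

Any two of them have a common neighbour, by descending the derived series of `N`.
-/

set_option autoImplicit false
set_option linter.style.haveILetI false
set_option linter.unusedSectionVars false

noncomputable section

open Cfsg CfsgLib.Chars CfsgLib.Chars.Induced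
open scoped commutatorElement

namespace CfsgLib.RelDegree

universe u

variable {G : Type u} [Group G] [Fintype G]

theorem relIndex_dvd_index (T K : Subgroup G) [K.Normal] : T.relIndex K ∣ T.index := by
  obtain ⟨c, hc⟩ := Subgroup.relIndex_dvd_index_of_normal K T
  have h1 := Subgroup.relIndex_mul_index (inf_le_right : T ⊓ K ≤ K)
  have h2 := Subgroup.relIndex_mul_index (inf_le_left : T ⊓ K ≤ T)
  rw [Subgroup.inf_relIndex_right] at h1
  rw [Subgroup.inf_relIndex_left, ← h1, hc, mul_left_comm] at h2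
  refine ⟨c, ?_⟩
  exact Nat.eq_of_mul_eq_mul_left (Nat.pos_of_ne_zero fun h => Subgroup.index_ne_zero_of_finite
    (H := K) (by rw [hc, h, zero_mul])) h2

/-- Restriction to a normal subgroup of coprime index stays irreducible. -/
theorem exists_restrict_irr {K : Subgroup G} [Fintype K] {M : Subgroup G} [M.Normal] (hMK : M ≤ K)
    (θ : IrrCharacter K) (h : (charDegree (θ : K → ℂ)).Coprime (M.relIndex K)) :
    ∃ φ : IrrCharacter M, ∀ a : M, (φ : M → ℂ) a = (θ : K → ℂ) (Subgroup.inclusion hMK a) := by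
  classical
  haveI : Fintype (M.subgroupOf K) := Fintype.ofFinite _
  obtain ⟨θ₀, hθ₀⟩ := exists_mult_restrict_ne_zero (N := M.subgroupOf K) θ
  set T := inertia (M.subgroupOf K) (θ₀ : M.subgroupOf K → ℂ) with hT
  set e := mult (fun n : M.subgroupOf K => (θ : K → ℂ) n) θ₀ with he
  have h1 : charDegree (θ : K → ℂ) = e * T.index * charDegree (θ₀ : M.subgroupOf K → ℂ) := by
    apply Nat.cast_injective (R := ℂ)
    push_cast
    rw [coe_charDegree, coe_charDegree, clifford_one θ θ₀ hθ₀]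
  have h2 : charDegree (θ : K → ℂ) ∣ charDegree (θ₀ : M.subgroupOf K → ℂ) :=
    h.dvd_of_dvd_mul_right (charDegree_dvd_mul_index θ θ₀ hθ₀)
  have hpos := charDegree_pos θ₀
  have h3 : e * T.index = 1 := by
    rw [h1] at h2
    have hle := Nat.le_of_dvd hpos h2
    have h4 : e * T.index ≤ 1 := Nat.le_of_mul_le_mul_right (by rw [one_mul]; exact hle) hpos
    have h5 : 0 < e * T.index :=
      Nat.mul_pos (Nat.pos_of_ne_zero hθ₀) (Nat.pos_of_ne_zero Subgroup.index_ne_zero_of_finite)
    omega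
  obtain ⟨he1, hT1⟩ := mul_eq_one.1 h3
  have hsingle : (Set.finite_range fun x : K => conjIrr x θ₀).toFinset = {θ₀} := by
    ext η
    simp only [Set.Finite.mem_toFinset, Set.mem_range, Finset.mem_singleton]
    refine ⟨fun ⟨x, hx⟩ => hx ▸ Subtype.ext (mem_inertia.1 ?_),
      fun h => ⟨1, (conjIrr_one θ₀).trans h.symm⟩⟩
    rw [← hT, Subgroup.index_eq_one.1 hT1]
    exact Subgroup.mem_top x
  let f : M →* M.subgroupOf K := (Subgroup.subgroupOfEquivOfLe hMK).symm.toMonoidHom
  refine ⟨⟨fun a => (θ₀ : M.subgroupOf K → ℂ) (f a),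
    isIrrCharacter_comp θ₀.2 f (Subgroup.subgroupOfEquivOfLe hMK).symm.surjective⟩, fun a => ?_⟩
  have h6 := congrFun (clifford θ θ₀ hθ₀) (f a)
  rw [← he, he1, Nat.cast_one, one_smul, hsingle, Finset.sum_singleton] at h6
  exact h6.symm

section Twist

variable {K : Subgroup G} [K.Normal] [Fintype K]

/-- The product of a linear and an irreducible character. -/
def twist (l : Lin K) (θ : IrrCharacter K) : IrrCharacter K :=
  ⟨fun n => ((l.hom n : ℂˣ) : ℂ) * (θ : K → ℂ) n, isIrrCharacter_linear_mul θ.2 l.hom⟩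

theorem charDegree_twist (l : Lin K) (θ : IrrCharacter K) :
    charDegree (twist l θ : K → ℂ) = charDegree (θ : K → ℂ) := by
  apply charDegree_eq_of_map_one
  show ((l.hom 1 : ℂˣ) : ℂ) * (θ : K → ℂ) 1 = _
  rw [map_one, Units.val_one, one_mul, coe_charDegree]

theorem detL_twist (l : Lin K) (θ : IrrCharacter K) :
    detL (twist l θ) = l ^ charDegree (θ : K → ℂ) * detL θ := by
  refine Lin.ext fun n => Units.ext ?_
  rw [Lin.mul_apply, Lin.pow_apply, Units.val_mul, Units.val_pow_eq_pow_val]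
  show ((detHom (isCharacter_coe (twist l θ)) n : ℂˣ) : ℂ) =
    ((l.hom n : ℂˣ) : ℂ) ^ _ * ((detHom (isCharacter_coe θ) n : ℂˣ) : ℂ)
  rw [detHom_apply, detHom_apply]
  exact detChar_linear_mul θ.2 l.hom (d := charDegree (θ : K → ℂ)) (by rw [coe_charDegree]) n

theorem ne_oneChar_of_degree {θ : IrrCharacter K} (h : charDegree (θ : K → ℂ) ≠ 1) :
    θ ≠ oneChar K := fun e => h (e ▸ charDegree_eq_of_map_one (by simp))

theorem inertia_index_dvd (χ : IrrCharacter G) (θ : IrrCharacter K)
    (h : mult (fun n : K => (χ : G → ℂ) n) θ ≠ 0) :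
    (inertia K (θ : K → ℂ)).index ∣ charDegree (χ : G → ℂ) ∧
      charDegree (θ : K → ℂ) ∣ charDegree (χ : G → ℂ) := by
  have h1 : charDegree (χ : G → ℂ) = mult (fun n : K => (χ : G → ℂ) n) θ *
      (inertia K (θ : K → ℂ)).index * charDegree (θ : K → ℂ) := by
    apply Nat.cast_injective (R := ℂ)
    push_cast
    rw [coe_charDegree, coe_charDegree, clifford_one χ θ h]
  exact ⟨h1 ▸ (dvd_mul_left _ _).trans (dvd_mul_right _ _), h1 ▸ dvd_mul_left _ _⟩

theorem stab_pow_eq {l : Lin K} {i : ℕ} (h : i.Coprime (orderOf l)) :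
    stab (G := G) (l ^ i) = stab l := by
  refine le_antisymm ?_ (stab_le_pow l i)
  obtain ⟨j, hj⟩ := exists_pow_eq_self_of_coprime h
  conv_rhs => rw [← hj]
  exact stab_le_pow _ j

theorem card_lin : Nat.card (Lin K) = (commutator K).index := card_monoidHom_units

/-- A nontrivial determinant over a degree prime to `m` gives a moving character of prime order. -/
theorem exists_moving (hKG : K ≤ commutator G) {m : ℕ}
    (hKm : ∀ q : ℕ, q.Prime → q ∣ (commutator K).index → q ∣ m) (χ : IrrCharacter G)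
    (θ : IrrCharacter K) (h : mult (fun n : K => (χ : G → ℂ) n) θ ≠ 0)
    (hcop : (charDegree (χ : G → ℂ)).Coprime m) (hdet : detL θ ≠ 1) :
    ∃ (q : ℕ) (x : Lin K), q.Prime ∧ orderOf x = q ∧ q ∣ m ∧
      (stab (G := G) x).index ∣ charDegree (χ : G → ℂ) ∧ (stab (G := G) x).index ≠ 1 := by
  obtain ⟨q, hq, hqd⟩ := Nat.exists_prime_and_dvd (show orderOf (detL θ) ≠ 1 from
    fun e => hdet (orderOf_eq_one_iff.1 e))
  set i := orderOf (detL θ) / q
  have hxo : orderOf (detL θ ^ i) = q := orderOf_pow_orderOf_div (orderOf_pos _).ne' hqd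
  have hqm : q ∣ m := hKm q hq (card_lin (K := K) ▸ hqd.trans (orderOf_dvd_natCard _))
  refine ⟨q, _, hq, hxo, hqm, (Subgroup.index_dvd_of_le
    ((inertia_le_stab_det θ).trans (stab_le_pow _ i))).trans (inertia_index_dvd χ θ h).1,
    fun h1 => ?_⟩
  obtain ⟨e, he, hpow⟩ := det_pow_eq_one hKG χ θ h i (forall_cj_eq_of_index h1)
  have hqe := hxo ▸ orderOf_dvd_of_pow_eq_one hpow
  exact hq.ne_one (Nat.eq_one_of_dvd_coprimes hcop (he ▸ dvd_mul_of_dvd_left hqe _) hqm)

/-- A character of a subgroup of the derived group invariant in `K` has exponent `|K : M|`. -/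
theorem pow_relIndex_eq_one {M : Subgroup G} [M.Normal] [Fintype M] (hM : M = ⁅K, K⁆)
    (μ : Lin M) (hinv : K ≤ stab (G := G) μ) : μ ^ M.relIndex K = 1 := by
  have hMK : M ≤ K := hM ▸ Subgroup.commutator_le_self K
  set k := M.relIndex K
  have hfix : ∀ g ∈ K, ∀ a a' : M, (a' : G) = g * a * g⁻¹ → μ.hom a' = μ.hom a := by
    intro g hg a a' ha
    have := (mem_inertia_iff_forall.1 (hinv hg)) a a' ha
    rw [linL_apply, linL_apply] at this
    exact Units.ext this
  have hmem : ∀ g ∈ K, g ^ k ∈ M := by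
    intro g hg
    haveI : (M.subgroupOf K).Normal := inferInstance
    exact Subgroup.pow_index_mem (H := M.subgroupOf K) (⟨g, hg⟩ : K)
  refine Lin.ext fun a => ?_
  show μ.hom a ^ k = 1
  have hgen : ∀ a b : G, a ∈ K → b ∈ K → ∀ hab : ⁅a, b⁆ ∈ M,
      μ.hom ⟨⁅a, b⁆, hab⟩ ^ k = 1 := by
    intro a b ha hb hab
    have hin : ∀ i : ℕ, ⁅a ^ i, b⁆ ∈ M := fun i =>
      hM ▸ Subgroup.commutator_mem_commutator (pow_mem ha i) hb
    have hi : ∀ i : ℕ, μ.hom ⟨⁅a ^ i, b⁆, hin i⟩ = μ.hom ⟨⁅a, b⁆, hab⟩ ^ i := by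
      intro i
      induction i with
      | zero =>
        refine Eq.trans ?_ (pow_zero _).symm
        rw [← map_one μ.hom]
        exact congrArg μ.hom (Subtype.ext (by simp [commutatorElement_def]))
      | succ i ih =>
        have hc : a * ⁅a ^ i, b⁆ * a⁻¹ ∈ M := ‹M.Normal›.conj_mem _ (hin i) a
        have he : (⟨⁅a ^ (i + 1), b⁆, hin (i + 1)⟩ : M) = ⟨_, hc⟩ * ⟨⁅a, b⁆, hab⟩ :=
          Subtype.ext (by
            show ⁅a ^ (i + 1), b⁆ = a * ⁅a ^ i, b⁆ * a⁻¹ * ⁅a, b⁆
            rw [pow_succ']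
            simp only [commutatorElement_def]
            group)
        rw [he, map_mul, hfix a ha ⟨_, hin i⟩ ⟨_, hc⟩ rfl, ih, pow_succ]
    rw [← hi k]
    have hx : b * (a ^ k)⁻¹ * b⁻¹ ∈ M := ‹M.Normal›.conj_mem _ (inv_mem (hmem a ha)) b
    have he : (⟨⁅a ^ k, b⁆, hin k⟩ : M) = ⟨a ^ k, hmem a ha⟩ * ⟨_, hx⟩ :=
      Subtype.ext (by
        show ⁅a ^ k, b⁆ = a ^ k * (b * (a ^ k)⁻¹ * b⁻¹)
        simp only [commutatorElement_def, mul_assoc])
    rw [he, map_mul, hfix b hb (⟨a ^ k, hmem a ha⟩⁻¹) ⟨_, hx⟩ (by simp), map_inv, mul_inv_cancel]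
  let S : Subgroup G := ((μ.hom ^ k : M →* ℂˣ).ker).map M.subtype
  have hS : M ≤ S := by
    conv_lhs => rw [hM]
    refine Subgroup.commutator_le.2 fun x hx y hy => ?_
    have hxy : ⁅x, y⁆ ∈ M := hM ▸ Subgroup.commutator_mem_commutator hx hy
    exact ⟨⟨_, hxy⟩, MonoidHom.mem_ker.2 (hgen x y hx hy hxy), rfl⟩
  obtain ⟨a', ha', he⟩ := hS a.2
  obtain rfl : a' = a := Subtype.ext he
  exact MonoidHom.mem_ker.1 ha'

end Twist

/-- **Common neighbours** among the degrees prime to `m`. -/
theorem exists_common_neighbour {N : Subgroup G} (hNG : N ≤ commutator G) (m : ℕ)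
    (hsep : ∀ a ∈ relCharDegrees N, ∀ b ∈ relCharDegrees N, a.Coprime m → ¬ b.Coprime m →
      a.Coprime b) :
    ∀ (n : ℕ) (K : Subgroup G) [K.Normal] [Fintype K], Nat.card K = n → K ≤ N →
      Group.IsSolvable K → (∀ q : ℕ, q.Prime → q ∣ (commutator K).index → q ∣ m) →
      ∀ (χ χ' : IrrCharacter G) (θ θ' : IrrCharacter K),
        mult (fun a : K => (χ : G → ℂ) a) θ ≠ 0 → mult (fun a : K => (χ' : G → ℂ) a) θ' ≠ 0 →
        θ ≠ oneChar K → θ' ≠ oneChar K →
        (charDegree (χ : G → ℂ)).Coprime m → (charDegree (χ' : G → ℂ)).Coprime m →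
        (charDegree (χ : G → ℂ)).Coprime (charDegree (χ' : G → ℂ)) →
        ∃ e ∈ relCharDegrees N, ¬ e.Coprime (charDegree (χ : G → ℂ)) ∧
          ¬ e.Coprime (charDegree (χ' : G → ℂ)) := by
  intro n
  induction n using Nat.strong_induction_on with
  | _ n ih =>
  intro K _ _ hcard hKN hsolv hKm χ χ' θ θ' hθ hθ' hne hne' hb hc hbc
  classical
  have hKG : K ≤ commutator G := hKN.trans hNG
  have hrel : ∀ (ξ : IrrCharacter G) (η : IrrCharacter K), η ≠ oneChar K →
      mult (fun a : K => (ξ : G → ℂ) a) η ≠ 0 → charDegree (ξ : G → ℂ) ∈ relCharDegrees N := by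
    intro ξ η h1 h2
    obtain ⟨x, hx, hx'⟩ := kernel_not_le ξ η h1 h2
    exact ⟨ξ, ⟨x, hKN hx, hx'⟩, rfl⟩
  have hshare : ∀ {s a b : ℕ}, s ≠ 1 → s ∣ a → s ∣ b → ¬ a.Coprime b := fun hs h1 h2 h =>
    hs (Nat.eq_one_of_dvd_coprimes h h1 h2)
  -- a determinant and a nonlinear constituent
  have hAB : ∀ (ξ ξ' : IrrCharacter G) (η η' : IrrCharacter K),
      mult (fun a : K => (ξ : G → ℂ) a) η ≠ 0 → mult (fun a : K => (ξ' : G → ℂ) a) η' ≠ 0 →
      (charDegree (ξ : G → ℂ)).Coprime m → (charDegree (ξ' : G → ℂ)).Coprime m →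
      detL η ≠ 1 → detL η' = 1 → η' ≠ oneChar K →
      ∃ e ∈ relCharDegrees N, ¬ e.Coprime (charDegree (ξ : G → ℂ)) ∧
        ¬ e.Coprime (charDegree (ξ' : G → ℂ)) := by
    intro ξ ξ' η η' hη hη' hξ hξ' hd hd' hne''
    obtain ⟨q, x, hq, hxo, hqm, hxd, hx1⟩ := exists_moving hKG hKm ξ η hη hξ hd
    have hdeg : charDegree (η' : K → ℂ) ≠ 1 := by
      intro h
      obtain ⟨l, hl⟩ := exists_linChar_eq η' ((charDegree_eq_one_iff η').mp h)
      let l' : Lin K := l
      have e : η' = linL l' := hl.symm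
      rw [e, detL_linL] at hd'
      exact hne'' (by rw [e, hd']; rfl)
    have hqd : ¬ q ∣ charDegree (η' : K → ℂ) := fun h =>
      hq.ne_one (Nat.eq_one_of_dvd_coprimes hξ' (h.trans (inertia_index_dvd ξ' η' hη').2) hqm)
    obtain ⟨ε, hε⟩ := exists_over (G := G) (twist x η')
    have hstab : inertia K (twist x η' : K → ℂ) ≤ stab x := by
      have h1 := inertia_le_stab_det (G := G) (twist x η')
      rwa [detL_twist, hd', mul_one,
        stab_pow_eq (by rw [hxo]; exact (hq.coprime_iff_not_dvd.2 hqd).symm)] at h1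
    refine ⟨_, hrel ε _ (ne_oneChar_of_degree (by rw [charDegree_twist]; exact hdeg)) hε,
      hshare hx1 ((Subgroup.index_dvd_of_le hstab).trans (inertia_index_dvd ε _ hε).1) hxd,
      hshare hdeg (charDegree_twist x η' ▸ (inertia_index_dvd ε _ hε).2)
        (inertia_index_dvd ξ' η' hη').2⟩
  by_cases hd : detL θ = 1 <;> by_cases hd' : detL θ' = 1
  · -- both nonlinear: descend
    have hdeg : ∀ η : IrrCharacter K, η ≠ oneChar K → detL η = 1 →
        charDegree (η : K → ℂ) ≠ 1 := fun η hη h1 h => by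
      obtain ⟨l, hl⟩ := exists_linChar_eq η ((charDegree_eq_one_iff η).mp h)
      let l' : Lin K := l
      have e : η = linL l' := hl.symm
      rw [e, detL_linL] at h1
      exact hη (by rw [e, h1]; rfl)
    have hd1 := hdeg θ hne hd
    have hd1' := hdeg θ' hne' hd'
    set M : Subgroup G := ⁅K, K⁆ with hM
    have hMK : M ≤ K := Subgroup.commutator_le_self K
    haveI : Fintype M := Fintype.ofFinite _
    have hrelIdx : M.relIndex K = (commutator K).index := by
      rw [Subgroup.relIndex, Subgroup.subgroupOf, hM, ← Subgroup.map_subtype_commutator,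
        Subgroup.comap_map_eq_self_of_injective K.subtype_injective]
    have hcopidx : ∀ d : ℕ, d.Coprime m → d.Coprime (M.relIndex K) := fun d hdm =>
      Nat.coprime_of_dvd fun p hp hpd hpi =>
        hp.ne_one (Nat.eq_one_of_dvd_coprimes hdm hpd (hKm p hp (hrelIdx ▸ hpi)))
    have hθdvd := (inertia_index_dvd χ θ hθ).2
    have hθdvd' := (inertia_index_dvd χ' θ' hθ').2
    obtain ⟨φ, hφ⟩ := exists_restrict_irr hMK θ (hcopidx _ (hb.coprime_dvd_left hθdvd))
    obtain ⟨φ', hφ'⟩ := exists_restrict_irr hMK θ' (hcopidx _ (hc.coprime_dvd_left hθdvd'))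
    have hover : ∀ (ξ : IrrCharacter G) (η : IrrCharacter K) (ψ : IrrCharacter M),
        mult (fun a : K => (ξ : G → ℂ) a) η ≠ 0 →
        (∀ a : M, (ψ : M → ℂ) a = (η : K → ℂ) (Subgroup.inclusion hMK a)) →
        mult (fun a : M => (ξ : G → ℂ) a) ψ ≠ 0 := by
      intro ξ η ψ h1 h2
      have h3 := mult_mul_mult_le_restrict (Subgroup.inclusion hMK)
        (isCharacter_restrict (isCharacter_coe ξ) K) η ψ
      rw [show (fun a : M => (η : K → ℂ) (Subgroup.inclusion hMK a)) = (ψ : M → ℂ) from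
        funext fun a => (h2 a).symm, mult_irr, if_pos rfl, mul_one] at h3
      change _ ≤ mult (fun a : M => (ξ : G → ℂ) a) ψ at h3
      omega
    have hφdeg : ∀ (η : IrrCharacter K) (ψ : IrrCharacter M),
        (∀ a : M, (ψ : M → ℂ) a = (η : K → ℂ) (Subgroup.inclusion hMK a)) →
        charDegree (ψ : M → ℂ) = charDegree (η : K → ℂ) := fun η ψ h => by
      apply charDegree_eq_of_map_one
      rw [h 1, map_one, coe_charDegree]
    -- the linear characters of `M` keep to the primes of `m`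
    have hlam : ∀ (ξ : IrrCharacter G) (η : IrrCharacter K) (ψ : IrrCharacter M),
        mult (fun a : K => (ξ : G → ℂ) a) η ≠ 0 → detL η = 1 →
        (∀ a : M, (ψ : M → ℂ) a = (η : K → ℂ) (Subgroup.inclusion hMK a)) →
        charDegree (η : K → ℂ) ≠ 1 → (charDegree (ξ : G → ℂ)).Coprime m →
        ∀ l : Lin M, orderOf l ∣ charDegree (η : K → ℂ) * M.relIndex K := by
      intro ξ η ψ hη hη1 hψ hη2 hξ l
      obtain ⟨ε, hε⟩ := exists_over (G := G) (twist l ψ)
      have hdψ := hφdeg η ψ hψ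
      have hεrel : charDegree (ε : G → ℂ) ∈ relCharDegrees N := by
        obtain ⟨x, hx, hx'⟩ := kernel_not_le ε (twist l ψ)
          (ne_oneChar_of_degree (by rw [charDegree_twist, hdψ]; exact hη2)) hε
        exact ⟨ε, ⟨x, hKN (hMK hx), hx'⟩, rfl⟩
      have hξrel := hrel ξ η (ne_oneChar_of_degree hη2) hη
      have hεm : (charDegree (ε : G → ℂ)).Coprime m := by
        by_contra h
        exact hshare hη2 (inertia_index_dvd ξ η hη).2
          (by rw [← hdψ, ← charDegree_twist l ψ]; exact (inertia_index_dvd ε _ hε).2)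
          (hsep _ hξrel _ hεrel hξ h)
      have hMT : M ≤ inertia M (twist l ψ : M → ℂ) := le_inertia (isClassFunction_coe _)
      have hKT : K ≤ inertia M (twist l ψ : M → ℂ) := by
        refine Subgroup.relIndex_eq_one.1 (Nat.eq_one_of_dvd_coprimes
          (hcopidx _ (hεm.coprime_dvd_left (inertia_index_dvd ε _ hε).1))
          (relIndex_dvd_index _ K) (Subgroup.relIndex_dvd_of_le_left K hMT))
      have hdet : detL ψ = 1 := by
        refine Lin.ext fun a => Units.ext ?_
        show ((detHom (isCharacter_coe ψ) a : ℂˣ) : ℂ) = 1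
        obtain ⟨k, ρ, -, hρχ⟩ := id η.2
        rw [detHom_apply, detChar_eq_of_rep ψ.2 (ρ.comp (Subgroup.inclusion hMK))
          (funext fun x => (congrFun hρχ _).trans (hψ x).symm)]
        show LinearMap.det (ρ (Subgroup.inclusion hMK a)) = 1
        rw [← detChar_eq_of_rep η.2 ρ hρχ, ← detHom_apply (isCharacter_coe η)]
        show (((detL η).hom (Subgroup.inclusion hMK a) : ℂˣ) : ℂ) = 1
        rw [hη1]; rfl
      have hinv : K ≤ stab (G := G) (l ^ charDegree (η : K → ℂ)) := by
        have h1 := hKT.trans (inertia_le_stab_det (G := G) (twist l ψ))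
        rwa [detL_twist, hdet, mul_one, hdψ] at h1
      refine orderOf_dvd_of_pow_eq_one ?_
      rw [pow_mul]
      exact pow_relIndex_eq_one rfl _ hinv
    have hMm : ∀ q : ℕ, q.Prime → q ∣ (commutator M).index → q ∣ m := by
      intro q hq hqM
      haveI := Fact.mk hq
      obtain ⟨l, hl⟩ := exists_prime_orderOf_dvd_card' (G := Lin M) q (card_lin (K := M) ▸ hqM)
      have h1 := hl ▸ hlam χ θ φ hθ hd hφ hd1 hb l
      have h2 := hl ▸ hlam χ' θ' φ' hθ' hd' hφ' hd1' hc l
      refine hKm q hq (hrelIdx ▸ ?_)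
      rcases hq.dvd_mul.1 h1 with h1 | h1
      · rcases hq.dvd_mul.1 h2 with h2 | h2
        · exact absurd (Nat.eq_one_of_dvd_coprimes hbc (h1.trans hθdvd) (h2.trans hθdvd')) hq.ne_one
        · exact h2
      · exact h1
    have hnt : Nontrivial K := by
      by_contra h
      rw [not_nontrivial_iff_subsingleton] at h
      exact hd1 ((charDegree_eq_one_iff θ).mpr (map_one_eq_one_of_isMulCommutative θ))
    have hlt : commutator K < ⊤ := Group.IsSolvable.commutator_lt_top_of_nontrivial K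
    have hcardlt : Nat.card M < n := by
      rw [← hcard]
      refine lt_of_le_of_ne (Nat.card_le_card_of_injective _ (Subgroup.inclusion_injective hMK))
        fun e => hlt.ne ?_
      have hMK' : M = K := Subgroup.eq_of_le_of_card_ge hMK (le_of_eq e.symm)
      refine Subgroup.index_eq_one.1 ?_
      rw [← hrelIdx, hMK', Subgroup.relIndex_self]
    have hsolvM : Group.IsSolvable M :=
      Group.isSolvable_of_isSolvable_injective (Subgroup.inclusion_injective hMK)
    exact ih (Nat.card M) hcardlt M rfl (hMK.trans hKN) hsolvM hMm χ χ' φ φ'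
      (hover χ θ φ hθ hφ) (hover χ' θ' φ' hθ' hφ')
      (ne_oneChar_of_degree (by rw [hφdeg θ φ hφ]; exact hd1))
      (ne_oneChar_of_degree (by rw [hφdeg θ' φ' hφ']; exact hd1')) hb hc hbc
  · obtain ⟨e, he, h1, h2⟩ := hAB χ' χ θ' θ hθ' hθ hc hb hd' hd hne
    exact ⟨e, he, h2, h1⟩
  · exact hAB χ χ' θ θ' hθ hθ' hb hc hd hd' hne'
  · -- two moving linear characters
    obtain ⟨q, x, hq, hxo, hqm, hxd, hx1⟩ := exists_moving hKG hKm χ θ hθ hb hd
    obtain ⟨r, y, hr, hyo, hrm, hyd, hy1⟩ := exists_moving hKG hKm χ' θ' hθ' hc hd'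
    have hxy : (stab (G := G) x).index.Coprime (stab (G := G) y).index :=
      (hbc.coprime_dvd_left hxd).coprime_dvd_right hyd
    have hz : x * y ≠ 1 := by
      intro h
      have e : y = x⁻¹ := eq_inv_of_mul_eq_one_right h
      have hst : stab (G := G) y = stab x := by
        rw [e]
        refine le_antisymm ?_ ?_ <;> intro g hg <;> rw [mem_stab] at hg ⊢
        · have h2 : cj g (x⁻¹) * cj g x = 1 := by rw [← cj_lmul, inv_mul_cancel, cj_id]
          rw [hg] at h2
          exact (eq_inv_of_mul_eq_one_right h2).trans (inv_inv x)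
        · have h2 : cj g (x⁻¹) * cj g x = 1 := by rw [← cj_lmul, inv_mul_cancel, cj_id]
          rw [hg] at h2
          exact eq_inv_of_mul_eq_one_left h2
      rw [hst, Nat.coprime_self] at hxy
      exact hx1 hxy
    obtain ⟨ε, hε⟩ := exists_over (G := G) (linL (x * y))
    have hone : linL (x * y) ≠ oneChar K := fun h => hz (linL_injective h)
    have hεs : (stab (G := G) (x * y)).index ∣ charDegree (ε : G → ℂ) :=
      (inertia_index_dvd ε _ hε).1
    have key : ∀ (q r : ℕ) (x y : Lin K), q.Prime → r.Prime → orderOf x = q → orderOf y = r →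
        ¬ q ∣ (stab (G := G) y).index → (stab (G := G) x).index ≠ 1 →
        (stab (G := G) x).index.Coprime (stab (G := G) y).index →
        ¬ (stab (G := G) (x * y)).index.Coprime (stab (G := G) x).index := by
      intro q r x y hq hr hxo hyo hqy hx1 hxy
      haveI := Fact.mk hq
      by_cases hqr : q = r
      · exact index_not_coprime_of_translate hxo hqy hx1 hxy
      · have hle : stab (G := G) (x * y) ≤ stab x := by
          refine (stab_le_pow _ r).trans (le_of_eq ?_)
          rw [mul_pow, ← hyo, pow_orderOf_eq_one, mul_one, hyo,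
            stab_pow_eq (by rw [hxo]; exact (Nat.coprime_primes hr hq).2 (Ne.symm hqr))]
        exact hshare hx1 (Subgroup.index_dvd_of_le hle) dvd_rfl
    have hqy : ¬ q ∣ (stab (G := G) y).index := fun h =>
      hq.ne_one (Nat.eq_one_of_dvd_coprimes hc (h.trans hyd) hqm)
    have hrx : ¬ r ∣ (stab (G := G) x).index := fun h =>
      hr.ne_one (Nat.eq_one_of_dvd_coprimes hb (h.trans hxd) hrm)
    have h1 := key q r x y hq hr hxo hyo hqy hx1 hxy
    have h2 := key r q y x hr hq hyo hxo hrx hy1 hxy.symm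
    rw [mul_comm y x] at h2
    exact ⟨_, hrel ε _ hone hε,
      fun h => h1 ((h.coprime_dvd_left hεs).coprime_dvd_right hxd),
      fun h => h2 ((h.coprime_dvd_left hεs).coprime_dvd_right hyd)⟩

end CfsgLib.RelDegree
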