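import Cfsg.Agent.Eq.Def_DegreeGraph
import Cfsg.Agent.RelDegree.Basic
import Mathlib.Combinatorics.SimpleGraph.Connectivity.Connected

/-!
Linking of the degrees lying over the linear characters of a normal subgroup.
-/

set_option autoImplicit false
set_option linter.style.haveILetI false
set_option linter.unusedSectionVars false

noncomputable section


open Cfsg CfsgLib.Chars CfsgLib.Chars.Induced

namespace CfsgLib.RelDegree

universe u

variable {G : Type u} [Group G] [Fintype G] {N : Subgroup G} [N.Normal] [Fintype N]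

variable (N) in
/-- Reachability in the relative common divisor graph. -/
def Reach (a b : ℕ) : Prop :=
  ∃ (ha : a ∈ relCharDegrees N) (hb : b ∈ relCharDegrees N),
    (commonDivisorGraph.induce (relCharDegrees N)).Reachable ⟨a, ha⟩ ⟨b, hb⟩

theorem Reach.symm {a b : ℕ} (h : Reach N a b) : Reach N b a := by
  obtain ⟨ha, hb, h⟩ := h
  exact ⟨hb, ha, h.symm⟩

theorem Reach.trans {a b c : ℕ} (h : Reach N a b) (h' : Reach N b c) : Reach N a c := by
  obtain ⟨ha, hb, h⟩ := h
  obtain ⟨hb', hc, h'⟩ := h'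
  exact ⟨ha, hc, h.trans h'⟩

theorem reach_of_dvd {a b p : ℕ} (ha : a ∈ relCharDegrees N) (hb : b ∈ relCharDegrees N)
    (hp : p.Prime) (hpa : p ∣ a) (hpb : p ∣ b) : Reach N a b := by
  by_cases hab : a = b
  · subst hab
    exact ⟨ha, hb, SimpleGraph.Reachable.refl _⟩
  · refine ⟨ha, hb, SimpleGraph.Adj.reachable ?_⟩
    refine ⟨hab, ?_⟩
    have hd := Nat.dvd_gcd hpa hpb
    have ha0 : 0 < a := by
      obtain ⟨χ, -, rfl⟩ := ha
      exact charDegree_pos χ
    exact lt_of_lt_of_le hp.one_lt (Nat.le_of_dvd (Nat.gcd_pos_of_pos_left _ ha0) hd)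

/-- The degrees lying over a linear character. -/
def Deg (l : Lin N) : Set ℕ :=
  {d | ∃ χ : IrrCharacter G, mult (fun n : N => (χ : G → ℂ) n) (linL l) ≠ 0 ∧
    charDegree (χ : G → ℂ) = d}

theorem deg_nonempty (l : Lin N) : ∃ a, a ∈ Deg l := by
  obtain ⟨χ, hχ⟩ := exists_over (linL l)
  exact ⟨_, χ, hχ, rfl⟩

theorem deg_subset {l : Lin N} (hl : l ≠ 1) {a : ℕ} (ha : a ∈ Deg l) :
    a ∈ relCharDegrees N := by
  obtain ⟨χ, hχ, rfl⟩ := ha
  exact ⟨χ, kernel_not_le χ _ (fun h => hl (linL_injective h)) hχ, rfl⟩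

theorem charDegree_linL (l : Lin N) :
    charDegree ((linL l : IrrCharacter N) : N → ℂ) = 1 :=
  charDegree_eq_of_map_one (by simp [linL_apply])

theorem stab_index_dvd (hNG : N ≤ commutator G) {l : Lin N} {a : ℕ} (ha : a ∈ Deg l) :
    (stab (G := G) l).index ∣ a := by
  obtain ⟨χ, hχ, rfl⟩ := ha
  haveI := Fintype.ofFinite (G ⧸ inertia N ((linL l : IrrCharacter N) : N → ℂ))
  obtain ⟨e, he, -⟩ := clifford_det hNG χ _ hχ
  rw [he, charDegree_linL, mul_one]
  exact dvd_mul_left _ _

theorem forall_cj_eq_of_index {l : Lin N} (h : (stab (G := G) l).index = 1) (g : G) :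
    cj g l = l := mem_stab.1 (Subgroup.index_eq_one.1 h ▸ Subgroup.mem_top g)

theorem orderOf_pow_dvd (hNG : N ≤ commutator G) {l : Lin N} {a : ℕ} (ha : a ∈ Deg l) (i : ℕ)
    (hi : (stab (G := G) (l ^ i)).index = 1) : orderOf (l ^ i) ∣ a := by
  obtain ⟨χ, hχ, rfl⟩ := ha
  obtain ⟨e, he, h1⟩ := det_pow_eq_one hNG χ _ hχ i
    (by rw [detL_linL]; exact forall_cj_eq_of_index hi)
  rw [detL_linL] at h1
  rw [he, charDegree_linL, mul_one]
  exact orderOf_dvd_of_pow_eq_one h1

theorem orderOf_dvd_deg (hNG : N ≤ commutator G) {l : Lin N} {a : ℕ} (ha : a ∈ Deg l)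
    (hi : (stab (G := G) l).index = 1) : orderOf l ∣ a := by
  have := orderOf_pow_dvd hNG ha 1 (by rw [pow_one]; exact hi)
  rwa [pow_one] at this

/-- Two linear characters all of whose degrees are linked. -/
def Link (l m : Lin N) : Prop := ∀ a ∈ Deg (G := G) l, ∀ b ∈ Deg (G := G) m, Reach N a b

theorem Link.symm {l m : Lin N} (h : Link (G := G) l m) : Link (G := G) m l :=
  fun a ha b hb => (h b hb a ha).symm

theorem Link.trans {l m k : Lin N} (h : Link (G := G) l m) (h' : Link (G := G) m k) :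
    Link (G := G) l k := fun a ha c hc => by
  obtain ⟨b, hb⟩ := deg_nonempty (G := G) m
  exact (h a ha b hb).trans (h' b hb c hc)

theorem link_of_share {l m : Lin N} (hl : l ≠ 1) (hm : m ≠ 1) {p : ℕ} (hp : p.Prime)
    (h1 : ∀ a ∈ Deg (G := G) l, p ∣ a) (h2 : ∀ a ∈ Deg (G := G) m, p ∣ a) : Link (G := G) l m :=
  fun a ha b hb => reach_of_dvd (deg_subset hl ha) (deg_subset hm hb) hp (h1 a ha) (h2 b hb)

theorem stab_le_pow (l : Lin N) (i : ℕ) : stab (G := G) l ≤ stab (l ^ i) := fun g hg => by
  rw [mem_stab] at hg ⊢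
  rw [cj_pow, hg]

theorem link_pow (hNG : N ≤ commutator G) {l : Lin N} {i : ℕ} (hi : l ^ i ≠ 1) :
    Link (G := G) l (l ^ i) := by
  have hl : l ≠ 1 := fun h => hi (by rw [h, one_pow])
  by_cases h1 : (stab (G := G) (l ^ i)).index = 1
  · obtain ⟨p, hp, hpd⟩ := Nat.exists_prime_and_dvd (show orderOf (l ^ i) ≠ 1 from
      fun h => hi (orderOf_eq_one_iff.1 h))
    exact link_of_share hl hi hp (fun a ha => hpd.trans (orderOf_pow_dvd hNG ha i h1))
      (fun a ha => hpd.trans (orderOf_dvd_deg hNG ha h1))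
  · obtain ⟨p, hp, hpd⟩ := Nat.exists_prime_and_dvd h1
    exact link_of_share hl hi hp
      (fun a ha => (hpd.trans (Subgroup.index_dvd_of_le (stab_le_pow l i))).trans
        (stab_index_dvd hNG ha))
      (fun a ha => hpd.trans (stab_index_dvd hNG ha))

theorem link_self (hNG : N ≤ commutator G) {l : Lin N} (hl : l ≠ 1) : Link (G := G) l l := by
  have := link_pow (G := G) hNG (l := l) (i := 1) (by rwa [pow_one])
  rwa [pow_one] at this

/-- Linear characters of different prime orders are linked. -/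
theorem link_of_prime_ne (hNG : N ≤ commutator G) {x y : Lin N} (hx : (orderOf x).Prime)
    (hy : (orderOf y).Prime) (hne : orderOf x ≠ orderOf y) : Link (G := G) x y := by
  have hcop : Nat.Coprime (orderOf x) (orderOf y) := (Nat.coprime_primes hx hy).2 hne
  have key : ∀ a b : Lin N, (orderOf a).Prime → Nat.Coprime (orderOf a) (orderOf b) →
      Link (G := G) a (a * b) := by
    intro a b ha hab
    have h1 : a ^ orderOf b ≠ 1 := fun h => by
      have h2 := orderOf_dvd_of_pow_eq_one h
      exact ha.ne_one (Nat.eq_one_of_dvd_coprimes hab dvd_rfl h2)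
    have h3 : (a * b) ^ orderOf b = a ^ orderOf b := by
      rw [mul_pow, pow_orderOf_eq_one, mul_one]
    exact (link_pow hNG h1).trans (h3 ▸ (link_pow hNG (h3.symm ▸ h1)).symm)
  have h2 := key y x hy hcop.symm
  rw [mul_comm] at h2
  exact (key x y hx hcop).trans h2.symm

theorem pow_prime_eq_one_of_orderOf {x : Lin N} {r : ℕ} (hx : orderOf x = r) : x ^ r = 1 :=
  hx ▸ pow_orderOf_eq_one x

theorem orderOf_mul_of_prime {x y : Lin N} {r : ℕ} [Fact r.Prime] (hx : orderOf x = r)
    (hy : orderOf y = r) (hxy : x * y ≠ 1) : orderOf (x * y) = r :=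
  orderOf_eq_prime (by rw [mul_pow, pow_prime_eq_one_of_orderOf hx, pow_prime_eq_one_of_orderOf hy,
    one_mul]) hxy

/-- An invariant character of prime order is linked with every character of the same order whose
stabiliser index is prime to that order. -/
theorem link_invariant (hNG : N ≤ commutator G) {x y : Lin N} {r : ℕ} [hr : Fact r.Prime]
    (hx : orderOf x = r) (hy : orderOf y = r) (hux : (stab (G := G) x).index = 1) :
    Link (G := G) x y := by
  have hx1 : x ≠ 1 := fun h => hr.out.ne_one (by rw [← hx, h, orderOf_one])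
  have hy1 : y ≠ 1 := fun h => hr.out.ne_one (by rw [← hy, h, orderOf_one])
  have hxd : ∀ a ∈ Deg (G := G) x, r ∣ a := fun a ha => hx ▸ orderOf_dvd_deg hNG ha hux
  by_cases huy : (stab (G := G) y).index = 1
  · exact link_of_share hx1 hy1 hr.out hxd fun a ha => hy ▸ orderOf_dvd_deg hNG ha huy
  set z := x * y with hz
  by_cases hz1 : z = 1
  · have hy' : y = x ^ (r - 1) := by
      have h1 : x ^ (r - 1) * x = 1 := by
        rw [← pow_succ, Nat.sub_add_cancel hr.out.one_le, ← hx, pow_orderOf_eq_one]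
      rw [eq_inv_of_mul_eq_one_right (show x * y = 1 from hz1), eq_inv_of_mul_eq_one_left h1]
    rw [hy']
    exact link_pow hNG (hy' ▸ hy1)
  have hzo : orderOf z = r := orderOf_mul_of_prime hx hy hz1
  have hcz : ∀ g : G, cj g z = x * cj g y := fun g => by
    rw [hz, cj_lmul, forall_cj_eq_of_index hux]
  have hstab : stab (G := G) z = stab y := by
    ext g
    rw [mem_stab, mem_stab, hcz, hz, mul_right_inj]
  haveI := Fintype.ofFinite (G ⧸ stab (G := G) z)
  set Q := ∏ q : G ⧸ stab (G := G) z, cj q.out y with hQ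
  by_cases hQ1 : Q = 1
  · -- every degree over `z` is divisible by `r`
    have hzd : ∀ a ∈ Deg (G := G) z, r ∣ a := by
      rintro a ⟨χ, hχ, rfl⟩
      obtain ⟨e, he, h1⟩ := @clifford_det _ _ _ _ _ _ _ hNG χ (linL z) hχ (‹Fintype (G ⧸ stab (G := G) z)›)
      rw [detL_linL] at h1
      rw [charDegree_linL, mul_one] at he
      have h2 : (∏ q : G ⧸ stab (G := G) z, cj q.out z) = x ^ (stab (G := G) z).index := by
        rw [Finset.prod_congr rfl fun q _ => hcz q.out, Finset.prod_mul_distrib, ← hQ, hQ1,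
          mul_one, Finset.prod_const, Finset.card_univ, ← Nat.card_eq_fintype_card,
          ← Subgroup.index_eq_card]
      have h3 : x ^ ((stab (G := G) z).index * e) = 1 := by
        rw [pow_mul, ← h2]
        exact h1
      have h4 := orderOf_dvd_of_pow_eq_one h3
      rw [hx] at h4
      rw [he, mul_comm]
      exact h4
    obtain ⟨p, hp, hpd⟩ := Nat.exists_prime_and_dvd huy
    exact (link_of_share hx1 hz1 hr.out hxd hzd).trans
      (link_of_share hz1 hy1 hp (fun a ha => (hstab ▸ hpd).trans (stab_index_dvd hNG ha))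
        (fun a ha => hpd.trans (stab_index_dvd hNG ha)))
  · -- every degree over `y` is divisible by `r`
    have key : ∀ (H : Subgroup G) (_ : Fintype (G ⧸ H)), H = stab (G := G) y →
        ∀ a ∈ Deg (G := G) y, ∃ e, e ∣ a ∧ (∏ q : G ⧸ H, cj q.out y) ^ e = 1 := by
      intro H inst hH
      subst hH
      rintro a ⟨χ, hχ, rfl⟩
      obtain ⟨e, he, h1⟩ := @clifford_det _ _ _ _ _ _ _ hNG χ (linL y) hχ inst
      rw [detL_linL] at h1
      exact ⟨e, he ▸ (dvd_mul_right _ _).trans (dvd_mul_right _ _), h1⟩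
    refine link_of_share hx1 hy1 hr.out hxd fun a ha => ?_
    obtain ⟨e, hea, he⟩ := key _ inferInstance hstab a ha
    rw [← hQ] at he
    have hQr : Q ^ r = 1 := by
      rw [hQ, ← Finset.prod_pow, Finset.prod_congr rfl (g := fun _ => (1 : Lin N)) fun q _ => by
        rw [← cj_pow, pow_prime_eq_one_of_orderOf hy, cj_id], Finset.prod_const_one]
    have := orderOf_dvd_of_pow_eq_one he
    rw [orderOf_eq_prime hQr hQ1] at this
    exact this.trans hea

/-- Translation argument: coprime orbit lengths. -/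
theorem index_not_coprime_of_translate {x y : Lin N} {r : ℕ} [hr : Fact r.Prime]
    (hx : orderOf x = r) (hy : ¬ r ∣ (stab (G := G) y).index)
    (hux : (stab (G := G) x).index ≠ 1)
    (hcop : Nat.Coprime (stab (G := G) x).index (stab (G := G) y).index) :
    ¬ Nat.Coprime (stab (G := G) (x * y)).index (stab (G := G) x).index := by
  classical
  intro hc
  let act : MulAction G (Lin N) :=
    { smul := fun g l => cj g l
      one_smul := cj_one
      mul_smul := fun g k l => cj_mul g k l }
  letI := act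
  have hstab : ∀ l : Lin N, MulAction.stabilizer G l = stab (G := G) l := fun l => by
    ext g
    rw [MulAction.mem_stabilizer_iff, mem_stab]
    rfl
  set z := x * y
  set T := stab (G := G) x
  set T' := stab (G := G) y
  have hDz : T ⊓ T' ≤ stab z := fun g hg => by
    rw [Subgroup.mem_inf, mem_stab, mem_stab] at hg
    rw [mem_stab, cj_lmul, hg.1, hg.2]
  have hD : (T ⊓ T').index = T.index * T'.index := by
    refine le_antisymm Subgroup.index_inf_le (Nat.le_of_dvd (Nat.pos_of_ne_zero
      Subgroup.index_ne_zero_of_finite) (hcop.mul_dvd_of_dvd_of_dvd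
      (Subgroup.index_dvd_of_le inf_le_left) (Subgroup.index_dvd_of_le inf_le_right)))
  have hzv : (stab (G := G) z).index ∣ T'.index :=
    hc.dvd_of_dvd_mul_left (hD ▸ Subgroup.index_dvd_of_le hDz)
  -- the orbit of `y` under the stabiliser of `x` is the whole orbit
  have horb : MulAction.orbit T y = MulAction.orbit G y := by
    refine Set.eq_of_subset_of_ncard_le (fun _ ⟨t, ht⟩ => ⟨(t : G), ht⟩) ?_ (Set.toFinite _)
    rw [← MulAction.index_stabilizer, ← MulAction.index_stabilizer, hstab]
    have h1 : MulAction.stabilizer T y = T'.subgroupOf T := by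
      ext t
      rw [MulAction.mem_stabilizer_iff, Subgroup.mem_subgroupOf, mem_stab]
      rfl
    rw [h1]
    have h2 : (T'.subgroupOf T).index * T.index = (T ⊓ T').index := by
      rw [← Subgroup.relIndex_mul_index (inf_le_left : T ⊓ T' ≤ T), Subgroup.inf_relIndex_left]
      rfl
    rw [hD, mul_comm T.index] at h2
    exact (Nat.eq_of_mul_eq_mul_right (Nat.pos_of_ne_zero Subgroup.index_ne_zero_of_finite) h2).ge
  set O := (MulAction.orbit G y).toFinite.toFinset with hO
  have hOc : O.card = T'.index := by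
    rw [hO, ← Set.ncard_eq_toFinset_card, ← MulAction.index_stabilizer, hstab]
  set Z := (MulAction.orbit G z).toFinite.toFinset with hZ
  have hsub : O.image (x * ·) ⊆ Z := by
    intro w hw
    obtain ⟨y', hy', rfl⟩ := Finset.mem_image.1 hw
    rw [hO, Set.Finite.mem_toFinset, ← horb] at hy'
    obtain ⟨t, rfl⟩ := hy'
    rw [hZ, Set.Finite.mem_toFinset]
    refine ⟨(t : G), ?_⟩
    show cj (t : G) (x * y) = x * cj (t : G) y
    rw [cj_lmul, mem_stab.1 t.2]
  have hZc : Z.card ≤ T'.index := by
    rw [hZ, ← Set.ncard_eq_toFinset_card, ← MulAction.index_stabilizer, hstab]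
    exact Nat.le_of_dvd (Nat.pos_of_ne_zero Subgroup.index_ne_zero_of_finite) hzv
  have heq : O.image (x * ·) = Z := Finset.eq_of_subset_of_card_le hsub
    (by rw [Finset.card_image_of_injective _ (mul_right_injective x), hOc]; exact hZc)
  apply hux
  rw [Subgroup.index_eq_one, eq_top_iff]
  intro g _
  rw [mem_stab]
  have hsub2 : O.image (cj g x * ·) ⊆ Z := by
    intro w hw
    obtain ⟨y', hy', rfl⟩ := Finset.mem_image.1 hw
    rw [hO, Set.Finite.mem_toFinset] at hy'
    have hy'' : g⁻¹ • y' ∈ MulAction.orbit G y := by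
      rw [← MulAction.orbit_eq_iff.2 hy']
      exact MulAction.mem_orbit _ _
    have : x * (g⁻¹ • y') ∈ Z := by
      rw [← heq]
      refine Finset.mem_image_of_mem _ ?_
      rwa [hO, Set.Finite.mem_toFinset]
    rw [hZ, Set.Finite.mem_toFinset] at this ⊢
    have h2 : cj g (x * (g⁻¹ • y')) ∈ MulAction.orbit G z := by
      rw [← MulAction.orbit_eq_iff.2 this]
      exact ⟨g, rfl⟩
    rw [cj_lmul] at h2
    rwa [show cj g (g⁻¹ • y') = y' from smul_inv_smul g y'] at h2
  have heq2 : O.image (cj g x * ·) = Z := Finset.eq_of_subset_of_card_le hsub2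
    (by rw [Finset.card_image_of_injective _ (mul_right_injective _), hOc]; exact hZc)
  have hp := congrArg (fun S : Finset (Lin N) => ∏ w ∈ S, w) (heq2.trans heq.symm)
  simp only [Finset.prod_image ((mul_right_injective _).injOn)] at hp
  rw [Finset.prod_mul_distrib (f := fun _ => cj g x) (g := fun w => w),
    Finset.prod_mul_distrib (f := fun _ => x) (g := fun w => w), Finset.prod_const,
    Finset.prod_const, hOc, mul_left_inj] at hp
  have hcr : Nat.Coprime r T'.index := hr.out.coprime_iff_not_dvd.2 hy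
  have h1 : (cj g x) ^ r = 1 := by rw [← cj_pow, pow_prime_eq_one_of_orderOf hx, cj_id]
  have h2 : x ^ r = 1 := pow_prime_eq_one_of_orderOf hx
  have h3 : (cj g x * x⁻¹) ^ Nat.gcd r T'.index = 1 := pow_gcd_eq_one.2
    ⟨by rw [mul_pow, h1, inv_pow, h2, inv_one, one_mul], by rw [mul_pow, hp, inv_pow, mul_inv_cancel]⟩
  rw [hcr, pow_one, mul_inv_eq_one] at h3
  exact h3

/-- Characters of the same prime order with stabiliser indices prime to it are linked. -/
theorem link_same_prime (hNG : N ≤ commutator G) {x y : Lin N} {r : ℕ} [hr : Fact r.Prime]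
    (hx : orderOf x = r) (hy : orderOf y = r) (hrx : ¬ r ∣ (stab (G := G) x).index)
    (hry : ¬ r ∣ (stab (G := G) y).index) : Link (G := G) x y := by
  have hx1 : x ≠ 1 := fun h => hr.out.ne_one (by rw [← hx, h, orderOf_one])
  have hy1 : y ≠ 1 := fun h => hr.out.ne_one (by rw [← hy, h, orderOf_one])
  by_cases hux : (stab (G := G) x).index = 1
  · exact link_invariant hNG hx hy hux
  by_cases huy : (stab (G := G) y).index = 1
  · exact (link_invariant hNG hy hx huy).symm
  have share : ∀ {l m : Lin N}, l ≠ 1 → m ≠ 1 →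
      ¬ Nat.Coprime (stab (G := G) l).index (stab (G := G) m).index → Link (G := G) l m := by
    intro l m hl hm h
    obtain ⟨p, hp, hpl, hpm⟩ := Nat.Prime.not_coprime_iff_dvd.1 h
    exact link_of_share hl hm hp (fun a ha => hpl.trans (stab_index_dvd hNG ha))
      (fun a ha => hpm.trans (stab_index_dvd hNG ha))
  by_cases hcop : Nat.Coprime (stab (G := G) x).index (stab (G := G) y).index
  swap
  · exact share hx1 hy1 hcop
  by_cases hz1 : x * y = 1
  · -- then the stabilisers coincide
    exfalso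
    have hst : stab (G := G) x = stab y := by
      ext g
      rw [mem_stab, mem_stab, eq_inv_of_mul_eq_one_right hz1]
      rw [show cj g x⁻¹ = (cj g x)⁻¹ from map_inv (⟨⟨fun l => cj g l, cj_id g⟩, cj_lmul g⟩ :
        (Lin N) →* (Lin N)) x, inv_inj]
    rw [hst, Nat.coprime_self] at hcop
    exact huy hcop
  have h1 := index_not_coprime_of_translate hx hry hux hcop
  have h2 := index_not_coprime_of_translate hy hrx huy hcop.symm
  rw [mul_comm y x] at h2
  exact (share hz1 hx1 h1).symm.trans (share hz1 hy1 h2)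

/-- The alternatives for a degree avoiding a prime. -/
theorem near_cases (hNG : N ≤ commutator G) {a r : ℕ} [hr : Fact r.Prime]
    (ha : a ∈ relCharDegrees N) (hra : ¬ r ∣ a) :
    (∀ x : Lin N, orderOf x = r → ∀ b ∈ Deg (G := G) x, Reach N a b) ∨
    ∃ y : Lin N, (orderOf y).Prime ∧ (∀ b ∈ Deg (G := G) y, Reach N a b) ∧
      (orderOf y = r → ¬ r ∣ (stab (G := G) y).index) := by
  classical
  obtain ⟨χ, ⟨x₀, hx₀, hker⟩, rfl⟩ := id ha
  have hres : (fun n : N => (χ : G → ℂ) n) ≠ 0 := fun h => by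
    have h1 := congrFun h 1
    simp only [OneMemClass.coe_one, Pi.zero_apply] at h1
    rw [← coe_charDegree, Nat.cast_eq_zero] at h1
    exact (charDegree_pos χ).ne' h1
  obtain ⟨θ, hθ⟩ := exists_mult_ne_zero (isCharacter_restrict (isCharacter_coe χ) N) hres
  set δ := detL θ with hδ
  haveI := Fintype.ofFinite (G ⧸ inertia N (θ : N → ℂ))
  obtain ⟨e₀, he₀, -⟩ := clifford_det hNG χ θ hθ
  by_cases huδ : (stab (G := G) δ).index = 1
  swap
  · -- the determinant moves
    right
    have hdvd : (stab (G := G) δ).index ∣ charDegree (χ : G → ℂ) := by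
      rw [he₀]
      exact dvd_mul_of_dvd_left ((Subgroup.index_dvd_of_le (inertia_le_stab_det θ)).trans
        (dvd_mul_left _ _)) _
    have hδ1 : δ ≠ 1 := fun h => huδ (by
      rw [Subgroup.index_eq_one, eq_top_iff]
      exact fun g _ => by rw [mem_stab, h, cj_id])
    obtain ⟨p, hp, hpd⟩ := Nat.exists_prime_and_dvd huδ
    obtain ⟨q, hq, hqd⟩ := Nat.exists_prime_and_dvd (show orderOf δ ≠ 1 from
      fun h => hδ1 (orderOf_eq_one_iff.1 h))
    have hyo : orderOf (δ ^ (orderOf δ / q)) = q :=
      orderOf_pow_orderOf_div (orderOf_pos δ).ne' hqd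
    have hy1 : δ ^ (orderOf δ / q) ≠ 1 := fun h => hq.ne_one (by rw [← hyo, h, orderOf_one])
    refine ⟨δ ^ (orderOf δ / q), hyo.symm ▸ hq, fun b hb => ?_, fun _ hr' => ?_⟩
    · obtain ⟨c, hc⟩ := deg_nonempty (G := G) δ
      exact (reach_of_dvd ha (deg_subset hδ1 hc) hp (hpd.trans hdvd)
        (hpd.trans (stab_index_dvd hNG hc))).trans (link_pow hNG hy1 c hc b hb)
    · exact hra (hr'.trans ((Subgroup.index_dvd_of_le (stab_le_pow δ _)).trans hdvd))
  obtain ⟨e, he, hpow⟩ := det_pow_eq_one hNG χ θ hθ 1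
    (by rw [pow_one]; exact forall_cj_eq_of_index huδ)
  rw [pow_one, ← hδ] at hpow
  by_cases hd : charDegree (θ : N → ℂ) = 1
  · -- a linear constituent
    right
    obtain ⟨l₀, hl⟩ := exists_monoidHom_of_map_one_eq_one (isCharacter_coe θ)
      (by rw [← coe_charDegree, hd, Nat.cast_one])
    let l : Lin N := l₀
    have hθl : θ = linL l := Subtype.ext (funext fun n => (hl n).trans (linL_apply l n).symm)
    clear_value l
    subst hθl
    rw [hδ, detL_linL] at hpow
    have hl1 : l ≠ 1 := by
      intro h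
      subst h
      apply hker
      have h2 := congrFun (clifford χ (linL (1 : Lin N)) hθ) ⟨x₀, hx₀⟩
      have h3 := congrFun (clifford χ (linL (1 : Lin N)) hθ) 1
      simp only [Pi.smul_apply, Finset.sum_apply, OneMemClass.coe_one] at h2 h3
      rw [h2, h3]
      congr 1
      refine Finset.sum_congr rfl fun η hη => ?_
      obtain ⟨g, rfl⟩ := (Set.Finite.mem_toFinset _).1 hη
      simp only [coe_conjIrr_linL, cj_id, linL_apply]
      rfl
    obtain ⟨q, hq, hqd⟩ := Nat.exists_prime_and_dvd (show orderOf l ≠ 1 from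
      fun h => hl1 (orderOf_eq_one_iff.1 h))
    have hyo : orderOf (l ^ (orderOf l / q)) = q :=
      orderOf_pow_orderOf_div (orderOf_pos l).ne' hqd
    have hy1 : l ^ (orderOf l / q) ≠ 1 := fun h => hq.ne_one (by rw [← hyo, h, orderOf_one])
    refine ⟨l ^ (orderOf l / q), hyo.symm ▸ hq,
      fun b hb => link_pow hNG hy1 _ ⟨χ, hθ, rfl⟩ b hb, fun h => ?_⟩
    exfalso
    rw [hyo] at h
    apply hra
    rw [he, ← h]
    exact dvd_mul_of_dvd_left (hqd.trans (orderOf_dvd_of_pow_eq_one hpow)) _
  · left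
    intro x hx b hb
    set d := charDegree (θ : N → ℂ) with hd'
    have hx1 : x ≠ 1 := fun h => hr.out.ne_one (by rw [← hx, h, orderOf_one])
    have hrd : ¬ r ∣ d := fun h => hra (by rw [he]; exact dvd_mul_of_dvd_right h _)
    have hre : ¬ r ∣ e := fun h => hra (by rw [he]; exact dvd_mul_of_dvd_left h _)
    have hxd1 : x ^ d ≠ 1 := fun h => hrd (hx ▸ orderOf_dvd_of_pow_eq_one h)
    let θ' : IrrCharacter N :=
      ⟨fun n => ((x.hom n : ℂˣ) : ℂ) * (θ : N → ℂ) n, isIrrCharacter_linear_mul θ.2 x.hom⟩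
    have hd1 : charDegree (θ' : N → ℂ) = d := by
      apply charDegree_eq_of_map_one
      show ((x.hom 1 : ℂˣ) : ℂ) * (θ : N → ℂ) 1 = _
      rw [map_one, Units.val_one, one_mul, hd', coe_charDegree]
    have hdet : detL θ' = x ^ d * δ := by
      refine Lin.ext fun n => Units.ext ?_
      rw [Lin.mul_apply, Lin.pow_apply, Units.val_mul, Units.val_pow_eq_pow_val, hδ]
      show ((detHom (isCharacter_coe θ') n : ℂˣ) : ℂ) =
        ((x.hom n : ℂˣ) : ℂ) ^ d * ((detHom (isCharacter_coe θ) n : ℂˣ) : ℂ)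
      rw [detHom_apply, detHom_apply]
      exact detChar_linear_mul θ.2 x.hom (d := d) (by rw [hd', coe_charDegree]) n
    have hne' : θ' ≠ oneChar N := fun h => hd (by
      rw [← hd1, h]
      exact charDegree_eq_of_map_one (by simp))
    obtain ⟨χ', hχ'⟩ := exists_over (G := G) θ'
    have hv' : charDegree (χ' : G → ℂ) ∈ relCharDegrees N :=
      ⟨χ', kernel_not_le χ' θ' hne' hχ', rfl⟩
    haveI := Fintype.ofFinite (G ⧸ inertia N (θ' : N → ℂ))
    obtain ⟨e', he', -⟩ := clifford_det hNG χ' θ' hχ'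
    have hd0 : d ≠ 1 := hd
    obtain ⟨p, hp, hpd⟩ := Nat.exists_prime_and_dvd hd0
    have hab : Reach N (charDegree (χ : G → ℂ)) (charDegree (χ' : G → ℂ)) :=
      reach_of_dvd ha hv' hp (by rw [he]; exact dvd_mul_of_dvd_right hpd _)
        (by rw [he', hd1]; exact dvd_mul_of_dvd_right hpd _)
    have hst : stab (G := G) (x ^ d * δ) = stab (x ^ d) := by
      ext g
      rw [mem_stab, mem_stab, cj_lmul, forall_cj_eq_of_index huδ g, mul_left_inj]
    refine hab.trans ?_
    obtain ⟨c, hc⟩ := deg_nonempty (G := G) (x ^ d)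
    refine Reach.trans ?_ ((link_pow hNG hxd1).symm c hc b hb)
    by_cases hu : (stab (G := G) (x ^ d)).index = 1
    · -- both sides are divisible by `r`
      obtain ⟨e'', he'', hpow'⟩ := det_pow_eq_one hNG χ' θ' hχ' 1 (by
        rw [pow_one, hdet]
        intro g
        rw [cj_lmul, forall_cj_eq_of_index huδ g, forall_cj_eq_of_index hu g])
      rw [pow_one, hdet] at hpow'
      have h5 : x ^ (d * e'' * e) = 1 := by
        have h6 := congrArg (· ^ e) hpow'
        simp only [mul_pow, one_pow] at h6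
        rw [← pow_mul δ, mul_comm e'', pow_mul δ, hpow, one_pow, mul_one] at h6
        rw [pow_mul, pow_mul]
        exact h6
      have h7 := orderOf_dvd_of_pow_eq_one h5
      rw [hx] at h7
      have h8 : r ∣ e'' := by
        rcases hr.out.dvd_mul.1 h7 with h | h
        · exact (hr.out.dvd_mul.1 h).resolve_left hrd
        · exact absurd h hre
      refine reach_of_dvd hv' (deg_subset hxd1 hc) hr.out (by rw [he'']; exact dvd_mul_of_dvd_left h8 _) ?_
      have h9 : orderOf (x ^ d) = r :=
        orderOf_eq_prime (by rw [← pow_mul, mul_comm, pow_mul, pow_prime_eq_one_of_orderOf hx,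
          one_pow]) hxd1
      exact h9 ▸ orderOf_dvd_deg hNG hc hu
    · obtain ⟨p', hp', hpd'⟩ := Nat.exists_prime_and_dvd hu
      refine reach_of_dvd hv' (deg_subset hxd1 hc) hp' ?_ (hpd'.trans (stab_index_dvd hNG hc))
      rw [← hst, ← hdet] at hpd'
      rw [he']
      exact dvd_mul_of_dvd_left ((hpd'.trans (Subgroup.index_dvd_of_le
        (inertia_le_stab_det θ'))).trans (dvd_mul_left _ _)) _

/-- Two degrees avoiding primes of `|N : N'|` are reachable from each other. -/
theorem reach_of_lacking (hNG : N ≤ commutator G) {a b r s : ℕ} [hr : Fact r.Prime]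
    [hs : Fact s.Prime] (ha : a ∈ relCharDegrees N) (hb : b ∈ relCharDegrees N)
    (hra : ¬ r ∣ a) (hsb : ¬ s ∣ b) (x x' : Lin N) (hx : orderOf x = r) (hx' : orderOf x' = s) :
    Reach N a b := by
  have conn : ∀ {l m : Lin N}, (∀ c ∈ Deg (G := G) l, Reach N a c) →
      (∀ c ∈ Deg (G := G) m, Reach N b c) → Link (G := G) l m → Reach N a b := by
    intro l m h1 h2 h
    obtain ⟨c, hc⟩ := deg_nonempty (G := G) l
    obtain ⟨c', hc'⟩ := deg_nonempty (G := G) m
    exact ((h1 c hc).trans (h c hc c' hc')).trans (h2 c' hc').symm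
  have hxp : (orderOf x).Prime := hx.symm ▸ hr.out
  have hxp' : (orderOf x').Prime := hx'.symm ▸ hs.out
  have self : ∀ {l : Lin N}, (orderOf l).Prime → Link (G := G) l l := fun {l} hl =>
    link_self hNG fun h => hl.ne_one (by rw [h, orderOf_one])
  rcases near_cases hNG ha hra with hA | ⟨y, hy, hay, hyr⟩ <;>
    rcases near_cases hNG hb hsb with hB | ⟨y', hy', hby, hys⟩
  · by_cases h : r = s
    · exact conn (hA x hx) (hB x (hx.trans h)) (self hxp)
    · exact conn (hA x hx) (hB x' hx') (link_of_prime_ne hNG hxp hxp' (by rwa [hx, hx']))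
  · by_cases h : orderOf y' = r
    · exact conn (hA y' h) hby (self hy')
    · exact conn (hA x hx) hby (link_of_prime_ne hNG hxp hy' (by rw [hx]; exact Ne.symm h))
  · by_cases h : orderOf y = s
    · exact conn hay (hB y h) (self hy)
    · exact conn hay (hB x' hx') (link_of_prime_ne hNG hy hxp' (by rw [hx']; exact h))
  · refine conn hay hby ?_
    by_cases h : orderOf y = orderOf y'
    swap
    · exact link_of_prime_ne hNG hy hy' h
    by_cases h1 : orderOf y = r
    swap
    · exact (link_of_prime_ne hNG hy hxp (by rw [hx]; exact h1)).trans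
        (link_of_prime_ne hNG hxp hy' (by rw [hx, ← h]; exact Ne.symm h1))
    by_cases h2 : orderOf y' = s
    swap
    · exact (link_of_prime_ne hNG hy hxp' (by rw [hx', h]; exact h2)).trans
        (link_of_prime_ne hNG hxp' hy' (by rw [hx']; exact Ne.symm h2))
    have hrs : r = s := by rw [← h1, h, h2]
    subst hrs
    exact link_same_prime hNG h1 h2 (hyr h1) (hys h2)

end CfsgLib.RelDegree
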